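import Mathlib.Data.ENat.Lattice
import Mathlib.Order.WithBot

/-!
# Addition of natural numbers in `WithBot ℕ∞`
-/

set_option autoImplicit false

namespace K110.WithBotAdd

theorem add_natCast_le_add_natCast_iff (a b : WithBot ℕ∞) (n : ℕ) :
    a + (n : WithBot ℕ∞) ≤ b + (n : WithBot ℕ∞) ↔ a ≤ b := by
  constructor
  · intro h
    induction a using WithBot.recBotCoe with
    | bot => exact bot_le
    | coe a =>
      induction b using WithBot.recBotCoe with
      | bot =>
        rw [WithBot.bot_add] at h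
        exact absurd (le_bot_iff.1 h) (by
          change ((a + (n : ℕ∞) : ℕ∞) : WithBot ℕ∞) ≠ ⊥
          exact WithBot.coe_ne_bot)
      | coe b =>
        have h' : a + (n : ℕ∞) ≤ b + (n : ℕ∞) := by exact_mod_cast h
        have : a ≤ b := (ENat.add_le_add_iff_right (ENat.natCast_ne_top n)).1 h'
        exact_mod_cast this
  · intro h
    gcongr

theorem add_natCast_inj (a b : WithBot ℕ∞) (n : ℕ) :
    a + (n : WithBot ℕ∞) = b + (n : WithBot ℕ∞) ↔ a = b := by
  rw [le_antisymm_iff, le_antisymm_iff, add_natCast_le_add_natCast_iff,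
    add_natCast_le_add_natCast_iff]

theorem exists_eq_add {a b : WithBot ℕ∞} {n : ℕ} (ha : a ≠ ⊥) (h : a + (n : WithBot ℕ∞) ≤ b) :
    ∃ c : WithBot ℕ∞, b = c + n := by
  induction a using WithBot.recBotCoe with
  | bot => exact absurd rfl ha
  | coe a =>
    induction b using WithBot.recBotCoe with
    | bot => exact absurd (le_bot_iff.1 h) (by
          change ((a + (n : ℕ∞) : ℕ∞) : WithBot ℕ∞) ≠ ⊥
          exact WithBot.coe_ne_bot)
    | coe b =>
      have h' : a + (n : ℕ∞) ≤ b := by exact_mod_cast h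
      have h2 : (n : ℕ∞) ≤ b := le_trans le_add_self h'
      obtain ⟨c, hc⟩ := exists_add_of_le h2
      exact ⟨(c : ℕ∞), by rw [hc, add_comm]; rfl⟩

theorem iSup_add_natCast_le {ι : Sort*} {g : ι → WithBot ℕ∞} {n : ℕ} {b : WithBot ℕ∞}
    (h : ∀ i, g i + (n : WithBot ℕ∞) ≤ b) : (⨆ i, g i) + (n : WithBot ℕ∞) ≤ b := by
  by_cases h0 : ∀ i, g i = ⊥
  · have : (⨆ i, g i) = ⊥ := by simp [h0]
    rw [this, WithBot.bot_add]
    exact bot_le
  · push Not at h0
    obtain ⟨i, hi⟩ := h0
    obtain ⟨c, rfl⟩ := exists_eq_add hi (h i)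
    rw [add_natCast_le_add_natCast_iff]
    exact iSup_le fun j => (add_natCast_le_add_natCast_iff _ _ _).1 (h j)

theorem iSup_add_natCast {ι : Sort*} (g : ι → WithBot ℕ∞) (n : ℕ) :
    (⨆ i, g i) + (n : WithBot ℕ∞) = ⨆ i, (g i + (n : WithBot ℕ∞)) := by
  apply le_antisymm
  · exact iSup_add_natCast_le fun i => le_iSup (fun i => g i + (n : WithBot ℕ∞)) i
  · refine iSup_le fun i => ?_
    gcongr
    exact le_iSup g i

end K110.WithBotAdd
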