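import Groth.Agent.Ega4fib.H111.FibFormula
import Groth.Agent.Ega4fib.H117.DimStalk
import Groth.Agent.EGA4.K110.WithBotAdd

/-!
# Dimension of a scheme locally of finite type over a locally Noetherian scheme

* `topologicalKrullDim_eq`: `dim X = sup_x dim O_{X,x}`;
* `exists_rtd_eq_zero`: every nonempty fibre of a morphism locally of finite type has a point with
  algebraic residue extension;
* `stalk_le`: `dim O_{X,x} ≤ dim O_{Y,f x} + e` for `f` dominant with `X`, `Y` irreducible;
* `dim_eq`: `dim X = (sup over y in f(X) of dim O_{Y,y}) + e` when the local rings of `Y` are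
  universally catenary.
-/

set_option autoImplicit false
universe u

namespace K110.DimFib

open CategoryTheory CategoryTheory.Limits AlgebraicGeometry Order
open Groth.Agent Groth.Agent.CycB Groth.Agent.CycB.RelDim

theorem topologicalKrullDim_eq (X : Scheme.{u}) :
    topologicalKrullDim X = ⨆ x : X, ringKrullDim (X.presheaf.stalk x) := by
  rw [show topologicalKrullDim X = krullDim X from
    krullDim_eq_of_orderIso irreducibleSetEquivPoints]
  simp_rw [ringKrullDim_stalk_eq_coheight]
  exact krullDim_eq_iSup_coheight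

theorem stalk_le_dim (X : Scheme.{u}) (x : X) :
    ringKrullDim (X.presheaf.stalk x) ≤ topologicalKrullDim X := by
  rw [topologicalKrullDim_eq]
  exact le_iSup (fun x : X => ringKrullDim (X.presheaf.stalk x)) x

/-- Every nonempty fibre of a morphism locally of finite type contains a point whose residue field
is algebraic over that of its image. -/
theorem exists_rtd_eq_zero {X Y : Scheme.{u}} (f : X ⟶ Y) [LocallyOfFiniteType f] (x : X) :
    ∃ x' : X, f x' = f x ∧ rtd f x' = 0 := by
  have hg : LocallyOfFiniteType (f.fiberToSpecResidueField (f x)) :=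
    inferInstanceAs (LocallyOfFiniteType (pullback.snd f (Y.fromSpecResidueField (f x))))
  have hJ : JacobsonSpace (f.fiber (f x)) :=
    LocallyOfFiniteType.jacobsonSpace (f.fiberToSpecResidueField (f x))
  obtain ⟨z, -, hz⟩ : ((Set.univ : Set (f.fiber (f x))) ∩ closedPoints _).Nonempty :=
    nonempty_inter_closedPoints ⟨f.asFiber x, trivial⟩ isOpen_univ.isLocallyClosed
  obtain ⟨n, hn, hn'⟩ := exists_dim_closure_fiber f (f x) z
  refine ⟨f.fiberι (f x) z, ?_, ?_⟩
  · have : f.fiberι (f x) z ∈ Set.range (f.fiberι (f x)) := ⟨z, rfl⟩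
    rw [Scheme.Hom.range_fiberι] at this
    exact this
  · have h1 : IsClosed ({z} : Set (f.fiber (f x))) := hz
    rw [h1.closure_eq] at hn'
    have h2 : topologicalKrullDim ↥({z} : Set (f.fiber (f x))) ≤ 0 :=
      topologicalKrullDim_zero_of_discreteTopology _
    rw [hn'] at h2
    have h3 : n = 0 := by
      have : n ≤ 0 := by exact_mod_cast h2
      omega
    rw [hn, h3, Nat.cast_zero]

section

variable {X Y : Scheme.{u}} [IrreducibleSpace X] [IrreducibleSpace Y] [IsLocallyNoetherian Y]
  (f : X ⟶ Y) [LocallyOfFiniteType f] [IsDominant f]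

theorem stalk_le (x : X) :
    ringKrullDim (X.presheaf.stalk x) ≤ ringKrullDim (Y.presheaf.stalk (f x)) +
      topologicalKrullDim ↥(f.fiber (genericPoint Y)) := by
  obtain ⟨dX, dY, n, e, hX, hY, hn, he, hdim, hle⟩ :=
    Groth.Agent.Ega4fib.H111.FibFormula.exists_dims f x
  rw [hX, hY, hdim]
  have : dX ≤ dY + e := by omega
  exact_mod_cast this

theorem stalk_eq (x : X) (hcat : CAlg.IsUniversallyCatenary (Y.presheaf.stalk (f x)))
    (hx : rtd f x = 0) :
    ringKrullDim (X.presheaf.stalk x) = ringKrullDim (Y.presheaf.stalk (f x)) +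
      topologicalKrullDim ↥(f.fiber (genericPoint Y)) := by
  obtain ⟨dX, dY, n, e, hX, hY, hn, he, hdim, hle⟩ :=
    Groth.Agent.Ega4fib.H111.FibFormula.exists_dims f x
  obtain ⟨a, b, ha, hb, hab⟩ := Ega4fib.H117.DimStalk.dimension_formula f hcat
    (genericPoint_specializes x)
  rw [Groth.Agent.Ega4fib.H111.FibFormula.ringKrullDim_locQuot_of_forall _ _ _
    fun z => genericPoint_specializes z, hX] at ha
  rw [Groth.Agent.Ega4fib.H111.FibFormula.ringKrullDim_locQuot_of_forall _ _ _ fun z => by
    rw [Ega43.ChevalleyCrit.map_genericPoint f]; exact genericPoint_specializes z, hY] at hb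
  have ha' : a = dX := by exact_mod_cast ha
  have hb' : b = dY := by exact_mod_cast hb
  subst ha' hb'
  rw [hx, he, add_zero] at hab
  have : dX = dY + e := by
    simp only [Cardinal.ofENat_nat] at hab
    exact_mod_cast hab
  rw [hX, hY, hdim, this]
  push_cast
  rfl

omit [IsLocallyNoetherian Y] in
theorem exists_dim_fibre : ∃ e : ℕ, topologicalKrullDim ↥(f.fiber (genericPoint Y)) = e := by
  obtain ⟨e, -, he⟩ := Groth.Agent.Ega4fib.H111.FibFormula.topologicalKrullDim_genericFibre f
  exact ⟨e, he⟩

/-- `dim X ≤ dim Y + dim X_η`. -/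
theorem dim_le :
    topologicalKrullDim X ≤ topologicalKrullDim Y +
      topologicalKrullDim ↥(f.fiber (genericPoint Y)) := by
  rw [topologicalKrullDim_eq X]
  refine iSup_le fun x => (stalk_le f x).trans ?_
  gcongr
  exact stalk_le_dim Y _

/-- If the local rings of `Y` are universally catenary then
`dim X = (sup over y in f(X) of dim O_{Y,y}) + dim X_η`. -/
theorem dim_eq (hcat : ∀ y : Y, CAlg.IsUniversallyCatenary (Y.presheaf.stalk y)) :
    topologicalKrullDim X = (⨆ y ∈ Set.range f, ringKrullDim (Y.presheaf.stalk y)) +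
      topologicalKrullDim ↥(f.fiber (genericPoint Y)) := by
  obtain ⟨e, he⟩ := exists_dim_fibre f
  rw [he]
  apply le_antisymm
  · rw [topologicalKrullDim_eq X]
    refine iSup_le fun x => (stalk_le f x).trans ?_
    rw [he]
    gcongr
    exact le_iSup₂_of_le (f x) ⟨x, rfl⟩ le_rfl
  · refine WithBotAdd.iSup_add_natCast_le fun y => WithBotAdd.iSup_add_natCast_le fun hy => ?_
    obtain ⟨x, rfl⟩ := hy
    obtain ⟨x', hx', h0⟩ := exists_rtd_eq_zero f x
    have := stalk_eq f x' (hcat _) h0
    rw [he, hx'] at this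
    rw [← this]
    exact stalk_le_dim X x'

end

section

variable {X Y : Scheme.{u}} [IsLocallyNoetherian Y] (f : X ⟶ Y) [LocallyOfFiniteType f]

omit [IsLocallyNoetherian Y] in
theorem ringKrullDim_le_of_quotient {R : Type*} [CommRing R] (b : WithBot ℕ∞)
    (h : ∀ (P : Ideal R), P.IsPrime → ringKrullDim (R ⧸ P) ≤ b) : ringKrullDim R ≤ b := by
  unfold ringKrullDim Order.krullDim
  refine iSup_le fun s => ?_
  refine le_trans ?_ (h s.head.asIdeal s.head.isPrime)
  rw [ringKrullDim_quotient]
  let t : LTSeries (PrimeSpectrum.zeroLocus (R := R) (s.head.asIdeal : Set R)) :=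
    { length := s.length
      toFun := fun i => ⟨s i, by
        rw [PrimeSpectrum.mem_zeroLocus]
        exact s.head_le i⟩
      step := fun i => s.step i }
  exact le_iSup (fun p : LTSeries (PrimeSpectrum.zeroLocus (R := R) (s.head.asIdeal : Set R)) =>
    (p.length : WithBot ℕ∞)) t

/-- If all fibres have dimension at most `n` then `dim O_{X,x} ≤ dim O_{Y,f x} + n`. -/
theorem stalk_le_of_fibre_le (n : ℕ) (h : ∀ y : Y, topologicalKrullDim (f.fiber y) ≤ n) (x : X) :
    ringKrullDim (X.presheaf.stalk x) ≤ ringKrullDim (Y.presheaf.stalk (f x)) + n := by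
  refine ringKrullDim_le_of_quotient _ fun P hP => ?_
  obtain ⟨ζ, hζ, rfl⟩ := LocQuot.exists_eq_ker P
  obtain ⟨dX, dY, hX, hY, hle⟩ := DimIneq.dim_ineq f hζ
  obtain ⟨m, hm, hm'⟩ := exists_dim_closure_fiber f (f ζ) (f.asFiber ζ)
  rw [Scheme.Hom.fiberι_asFiber] at hm
  have hmn : m ≤ n := by
    have h1 : topologicalKrullDim (closure {f.asFiber ζ} : Set (f.fiber (f ζ))) ≤
        topologicalKrullDim (f.fiber (f ζ)) := topologicalKrullDim_subspace_le _ _
    rw [hm'] at h1
    exact_mod_cast h1.trans (h (f ζ))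
  change (dX : Cardinal.{u}) + rtd f x ≤ (dY : Cardinal.{u}) + rtd f ζ at hle
  rw [hm] at hle
  have h2 : dX ≤ dY + m := by
    have : (dX : Cardinal.{u}) ≤ dY + m := le_trans (le_add_right le_rfl) hle
    exact_mod_cast this
  change ringKrullDim (Cyc.LocQuot x ζ hζ) ≤ _
  have h3 : ringKrullDim (Cyc.LocQuot (f x) (f ζ) (hζ.map f.continuous)) ≤
      ringKrullDim (Y.presheaf.stalk (f x)) := ringKrullDim_quotient_le _
  rw [hX]
  rw [hY] at h3
  calc (dX : WithBot ℕ∞) ≤ (dY : WithBot ℕ∞) + n := by
        have : dX ≤ dY + n := by omega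
        exact_mod_cast this
    _ ≤ _ := by gcongr

theorem dim_le_of_fibre_le (n : ℕ) (h : ∀ y : Y, topologicalKrullDim (f.fiber y) ≤ n) :
    topologicalKrullDim X ≤ topologicalKrullDim Y + n := by
  rw [topologicalKrullDim_eq X]
  refine iSup_le fun x => (stalk_le_of_fibre_le f n h x).trans ?_
  gcongr
  exact stalk_le_dim Y _

end

end K110.DimFib
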