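import Groth.Agent.Localalg.Depth3
import Groth.Agent.Ega4A.DepthBasic
import Mathlib.Algebra.Module.LocalizedModule.Exact
import Mathlib.RingTheory.Ideal.AssociatedPrime.Finiteness
import Mathlib.RingTheory.Ideal.AssociatedPrime.Localization

/-!
# The depth of a finite module along an irreducible closed subset

`A` Noetherian, `p` prime, `M` finite with `M_p ≠ 0`: there is `f ∉ p` such that for the primes
`q ⊇ p` with `f ∉ q`, `depth M_q = depth M_p + depth (A/p)_q`.
-/

set_option autoImplicit false
set_option linter.unusedSectionVars false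
universe u

open IsLocalRing

namespace K110.DepthAlong

open Groth.Agent.Localalg.Depth Groth.Agent.Localalg.Depth3

variable {A : Type u} [CommRing A]

/-- the depth of the localization at `q` -/
noncomputable abbrev dep (q : Ideal A) [q.IsPrime] (L : Type u) [AddCommGroup L] [Module A L] : ℕ∞ :=
  LocCoh.depth (Localization.AtPrime q) (LocalizedModule q.primeCompl L)

theorem isNoetherianRing_loc [IsNoetherianRing A] (q : Ideal A) [q.IsPrime] :
    IsNoetherianRing (Localization.AtPrime q) :=
  IsLocalization.isNoetherianRing q.primeCompl _ inferInstance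

variable (q : Ideal A) [q.IsPrime]

theorem dep_congr {L L' : Type u} [AddCommGroup L] [Module A L] [AddCommGroup L'] [Module A L']
    (e : L ≃ₗ[A] L') : dep q L = dep q L' :=
  idealDepth_congr_equiv _ (LinearEquiv.extendScalarsOfIsLocalization q.primeCompl
    (Localization.AtPrime q) (IsLocalizedModule.mapEquiv q.primeCompl
      (LocalizedModule.mkLinearMap q.primeCompl L) (LocalizedModule.mkLinearMap q.primeCompl L')
      (Localization.AtPrime q) e |>.restrictScalars A))

theorem dep_of_subsingleton {L : Type u} [AddCommGroup L] [Module A L] [Subsingleton L] :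
    dep q L = ⊤ := by
  have : Subsingleton (LocalizedModule q.primeCompl L) := inferInstance
  exact idealDepth_eq_top_of_subsingleton _ _

theorem dep_of_smul_eq_zero {L : Type u} [AddCommGroup L] [Module A L] {f : A} (hf : f ∉ q)
    (h : ∀ x : L, f • x = 0) :
    dep q L = ⊤ := by
  have : Subsingleton (LocalizedModule q.primeCompl L) := by
    rw [LocalizedModule.subsingleton_iff]
    exact fun m => ⟨f, hf, h m⟩
  exact idealDepth_eq_top_of_subsingleton _ _

section Exact

variable [IsNoetherianRing A]
  {N₁ N₂ N₃ : Type u} [AddCommGroup N₁] [Module A N₁] [Module.Finite A N₁]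
  [AddCommGroup N₂] [Module A N₂] [Module.Finite A N₂]
  [AddCommGroup N₃] [Module A N₃] [Module.Finite A N₃]
  (f : N₁ →ₗ[A] N₂) (g : N₂ →ₗ[A] N₃)
  (hf : Function.Injective f) (hg : Function.Surjective g) (hfg : Function.Exact f g)

include hf hg hfg

theorem min_le_dep₂ : min (dep q N₁) (dep q N₃) ≤ dep q N₂ := by
  have := isNoetherianRing_loc q
  exact idealDepth_shortExact₂ (maximalIdeal (Localization.AtPrime q))
    (LocalizedModule.map q.primeCompl f) (LocalizedModule.map q.primeCompl g)
    (LocalizedModule.map_injective _ f hf) (LocalizedModule.map_surjective _ g hg)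
    (LocalizedModule.map_exact q.primeCompl f g hfg)

theorem min_le_dep₁ : min (dep q N₂) (dep q N₃ + 1) ≤ dep q N₁ := by
  have := isNoetherianRing_loc q
  exact idealDepth_shortExact₁ (maximalIdeal (Localization.AtPrime q))
    (LocalizedModule.map q.primeCompl f) (LocalizedModule.map q.primeCompl g)
    (LocalizedModule.map_injective _ f hf) (LocalizedModule.map_surjective _ g hg)
    (LocalizedModule.map_exact q.primeCompl f g hfg)

end Exact

section Lower

variable [IsNoetherianRing A] (p : Ideal A) [p.IsPrime]

/-- `(A/p)_q` nonzero for `q ⊇ p` -/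
theorem nontrivial_of_mem_support (q : Ideal A) [hq : q.IsPrime] {L : Type u} [AddCommGroup L]
    [Module A L] (h : (⟨q, hq⟩ : PrimeSpectrum A) ∈ Module.support A L) :
    Nontrivial (LocalizedModule q.primeCompl L) := h

theorem mem_support_quotient (q : Ideal A) [hq : q.IsPrime] (I : Ideal A) (h : I ≤ q) :
    (⟨q, hq⟩ : PrimeSpectrum A) ∈ Module.support A (A ⧸ I) := by
  rw [Module.support_eq_zeroLocus, Ideal.annihilator_quotient]
  exact h

theorem dep_ne_top (q : Ideal A) [hq : q.IsPrime] {L : Type u} [AddCommGroup L]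
    [Module A L] [Module.Finite A L] (h : (⟨q, hq⟩ : PrimeSpectrum A) ∈ Module.support A L) :
    dep q L ≠ ⊤ := by
  have := isNoetherianRing_loc q
  have : Nontrivial (LocalizedModule q.primeCompl L) := h
  exact Groth.Agent.Ega4A.DepthBasic.depth_ne_top _

/-- For every finite module `L`, the depth of `(A/p)_q` is at most the depth of `L_q` for all `q` in
an open neighbourhood of the generic point of `V(p)` in `V(p)`. -/
theorem exists_dep_quotient_le_of_le (J : Ideal A) : ∀ (L : Type u) [AddCommGroup L] [Module A L]
    [Module.Finite A L], (∀ j ∈ J, ∀ x : L, j • x = 0) → ∃ f : A, f ∉ p ∧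
      ∀ (q : Ideal A) [q.IsPrime], p ≤ q → f ∉ q → dep q (A ⧸ p) ≤ dep q L := by
  induction J using WellFoundedGT.induction with
  | ind J ih =>
  intro L _ _ hL hJ
  induction hL using IsNoetherianRing.induction_on_isQuotientEquivQuotientPrime A with
  | subsingleton N =>
    exact ⟨1, (Ideal.ne_top_iff_one p).mp Ideal.IsPrime.ne_top', fun q _ _ _ => by
      rw [dep_of_subsingleton q (L := N)]; exact le_top⟩
  | quotient N P e =>
    have hJP : J ≤ P.1 := by
      intro j hj
      have h1 := hJ j hj (e.symm 1)
      have h2 := congrArg e h1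
      rw [map_smul, LinearEquiv.apply_symm_apply, map_zero] at h2
      have h3 : j • (1 : A ⧸ P.1) = Ideal.Quotient.mk P.1 j := by
        rw [Algebra.smul_def, mul_one]; rfl
      rw [h3] at h2
      exact Ideal.Quotient.eq_zero_iff_mem.mp h2
    suffices h : ∃ f : A, f ∉ p ∧
      ∀ (q : Ideal A) [q.IsPrime], p ≤ q → f ∉ q → dep q (A ⧸ p) ≤ dep q (A ⧸ P.1) by
      obtain ⟨f, hf, h⟩ := h
      refine ⟨f, hf, fun q _ hpq hfq => ?_⟩
      rw [dep_congr q e]
      exact h q hpq hfq
    by_cases hlt : J < P.1
    · refine ih P.1 hlt (A ⧸ P.1) ?_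
      intro j hj x
      obtain ⟨a, rfl⟩ := Ideal.Quotient.mk_surjective x
      rw [Algebra.smul_def]
      exact Ideal.Quotient.eq_zero_iff_mem.mpr (Ideal.mul_mem_right _ _ hj)
    have hJP' : J = P.1 := (eq_or_lt_of_le hJP).resolve_right hlt
    by_cases hPp : P.1 ≤ p
    · rcases eq_or_lt_of_le hPp with h | h
      · refine ⟨1, (Ideal.ne_top_iff_one p).mp Ideal.IsPrime.ne_top', fun q _ _ _ => ?_⟩
        subst h
        exact le_rfl
      · obtain ⟨x, hxp, hxP⟩ := Set.exists_of_ssubset h
        have h2 : J < J ⊔ Ideal.span {x} := by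
          refine lt_of_le_of_ne le_sup_left fun heq => hxP ?_
          rw [SetLike.mem_coe, ← hJP', heq]
          exact Ideal.mem_sup_right (Ideal.mem_span_singleton_self x)
        obtain ⟨f, hf, hf2⟩ := ih _ h2 (QuotSMulTop x (A ⧸ P.1)) (by
          intro j hj y
          have hann : J ⊔ Ideal.span {x} ≤ Module.annihilator A (QuotSMulTop x (A ⧸ P.1)) := by
            refine sup_le ?_ ?_
            · intro j hj
              rw [Module.mem_annihilator]
              intro y
              obtain ⟨y, rfl⟩ := Submodule.Quotient.mk_surjective _ y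
              obtain ⟨a, rfl⟩ := Ideal.Quotient.mk_surjective y
              rw [← Submodule.Quotient.mk_smul, Algebra.smul_def]
              have : algebraMap A (A ⧸ P.1) j * Ideal.Quotient.mk P.1 a = 0 := by
                exact Ideal.Quotient.eq_zero_iff_mem.mpr (Ideal.mul_mem_right _ _ (hJP hj))
              rw [this]
              rfl
            · rw [Ideal.span_singleton_le_iff_mem]
              exact QuotSMulTop.mem_annihilator _ _
          exact Module.mem_annihilator.mp (hann hj) y)
        refine ⟨f, hf, fun q _ hpq hfq => (hf2 q hpq hfq).trans ?_⟩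
        have hreg : IsSMulRegular (LocalizedModule q.primeCompl (A ⧸ P.1))
            (algebraMap A (Localization.AtPrime q) x) := by
          rw [isSMulRegular_localized_iff]
          intro m hm
          refine ⟨1, (Ideal.ne_top_iff_one q).mp Ideal.IsPrime.ne_top', ?_⟩
          rw [one_smul]
          obtain ⟨a, rfl⟩ := Ideal.Quotient.mk_surjective m
          rw [Algebra.smul_def] at hm
          have : x * a ∈ P.1 := by
            rw [← Ideal.Quotient.eq_zero_iff_mem, map_mul]
            exact hm
          exact Ideal.Quotient.eq_zero_iff_mem.mpr ((P.2.mem_or_mem this).resolve_left hxP)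
        have h3 := depth_localized_quotSMulTop_add_one q (A ⧸ P.1) x (hpq hxp) hreg
        exact le_self_add.trans h3.le
    · obtain ⟨f, hf, hfp⟩ := Set.not_subset.mp hPp
      refine ⟨f, hfp, fun q _ hpq hfq => ?_⟩
      rw [dep_of_smul_eq_zero q hfq (L := A ⧸ P.1)]
      · exact le_top
      · intro x
        obtain ⟨a, rfl⟩ := Ideal.Quotient.mk_surjective x
        rw [Algebra.smul_def]
        exact Ideal.Quotient.eq_zero_iff_mem.mpr (Ideal.mul_mem_right _ _ hf)
  | exact N₁ N₂ N₃ f g hf hg hfg h₁ h₃ =>
    obtain ⟨f1, hf1, h1⟩ := h₁ (fun j hj x => hf (by rw [map_smul, map_zero]; exact hJ j hj _))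
    obtain ⟨f3, hf3, h3⟩ := h₃ (fun j hj x => by
      obtain ⟨y, rfl⟩ := hg x
      rw [← map_smul, hJ j hj, map_zero])
    refine ⟨f1 * f3, fun h => (‹p.IsPrime›.mem_or_mem h).elim hf1 hf3, fun q _ hpq hfq => ?_⟩
    refine le_trans (le_min (h1 q hpq fun h => hfq (Ideal.mul_mem_right _ _ h))
      (h3 q hpq fun h => hfq (Ideal.mul_mem_left _ _ h))) (min_le_dep₂ q f g hf hg hfg)

theorem exists_dep_quotient_le (L : Type u) [AddCommGroup L] [Module A L]
    [Module.Finite A L] : ∃ f : A, f ∉ p ∧
      ∀ (q : Ideal A) [q.IsPrime], p ≤ q → f ∉ q → dep q (A ⧸ p) ≤ dep q L :=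
  exists_dep_quotient_le_of_le p ⊥ L fun j hj x => by
    rw [Ideal.mem_bot] at hj
    rw [hj, zero_smul]

end Lower

section Main

variable [IsNoetherianRing A] (p : Ideal A) [hp : p.IsPrime]

/-- an element regular on `M_p` is regular on `M_q` for all `q` in a basic open neighbourhood of `p` -/
theorem exists_isSMulRegular (M : Type u) [AddCommGroup M] [Module A M] [Module.Finite A M] (x : A)
    (hreg : IsSMulRegular (LocalizedModule p.primeCompl M)
      (algebraMap A (Localization.AtPrime p) x)) :
    ∃ f : A, f ∉ p ∧ ∀ (q : Ideal A) [q.IsPrime], f ∉ q →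
      IsSMulRegular (LocalizedModule q.primeCompl M) (algebraMap A (Localization.AtPrime q) x) := by
  rw [isSMulRegular_localized_iff] at hreg
  obtain ⟨s, hs⟩ : (LinearMap.ker (LinearMap.lsmul A M x)).FG := IsNoetherian.noetherian _
  have h1 : ∀ m ∈ s, ∃ t ∉ p, t • m = 0 := fun m hm => hreg m (by
    have : m ∈ LinearMap.ker (LinearMap.lsmul A M x) := by
      rw [← hs]; exact Submodule.subset_span hm
    exact this)
  choose! t ht ht2 using h1
  have hprod : ∏ m ∈ s, t m ∉ p := by
    rw [hp.prod_mem_iff]
    push Not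
    exact ht
  refine ⟨∏ m ∈ s, t m, hprod, fun q hq hfq => ?_⟩
  rw [isSMulRegular_localized_iff]
  intro m hm
  refine ⟨_, hfq, ?_⟩
  have h2 : Submodule.span A (s : Set M) ≤ LinearMap.ker (LinearMap.lsmul A M (∏ m ∈ s, t m)) := by
    rw [Submodule.span_le]
    intro m hm
    obtain ⟨c, hc⟩ := Finset.dvd_prod_of_mem t (Finset.mem_coe.mp hm)
    change (∏ m ∈ s, t m) • m = 0
    rw [hc, mul_comm, mul_smul, ht2 m hm, smul_zero]
  rw [hs] at h2
  exact h2 hm

/-- the depth formula along `V(p)` near its generic point. -/
theorem exists_dep_eq_add (r : ℕ) : ∀ (M : Type u) [AddCommGroup M] [Module A M] [Module.Finite A M],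
    dep p M = r → ∃ f : A, f ∉ p ∧ ∀ (q : Ideal A) [q.IsPrime], p ≤ q → f ∉ q →
      dep q M = r + dep q (A ⧸ p) := by
  have hpi : IsNoetherianRing (Localization.AtPrime p) := isNoetherianRing_loc p
  induction r with
  | zero =>
    intro M _ _ _ h0
    have hnt : Nontrivial (LocalizedModule p.primeCompl M) := by
      by_contra hn
      rw [not_nontrivial_iff_subsingleton] at hn
      have := idealDepth_eq_top_of_subsingleton (maximalIdeal (Localization.AtPrime p))
        (LocalizedModule p.primeCompl M)
      have h1 : dep p M = ⊤ := this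
      rw [h0] at h1
      simp at h1
    have hass : p ∈ associatedPrimes A M := by
      have h1 : dep p M = 0 := h0
      have h2 := (Groth.Agent.Ega4A.DepthBasic.depth_eq_zero_iff
        (LocalizedModule p.primeCompl M)).mp h1
      have h3 := Module.associatedPrimes.comap_mem_associatedPrimes_of_mem_associatedPrimes_of_isLocalizedModule_of_fg
        p.primeCompl (LocalizedModule.mkLinearMap p.primeCompl M) (maximalIdeal _) h2
        (IsNoetherian.noetherian _)
      have h4 : Ideal.comap (algebraMap A (Localization.AtPrime p))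
          (maximalIdeal (Localization.AtPrime p)) = p := Localization.AtPrime.under_maximalIdeal
      rwa [h4] at h3
    obtain ⟨-, g, hg⟩ := (isAssociatedPrime_iff_exists_injective_linearMap p M).mp hass
    let L := M ⧸ LinearMap.range g
    obtain ⟨f1, hf1, h1⟩ := exists_dep_quotient_le p M
    obtain ⟨f2, hf2, h2⟩ := exists_dep_quotient_le p L
    refine ⟨f1 * f2, fun h => (hp.mem_or_mem h).elim hf1 hf2, fun q hq hpq hfq => ?_⟩
    have h1' := h1 q hpq fun h => hfq (Ideal.mul_mem_right _ _ h)
    have h2' := h2 q hpq fun h => hfq (Ideal.mul_mem_left _ _ h)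
    have h3 := min_le_dep₁ q g (LinearMap.range g).mkQ hg (Submodule.mkQ_surjective _)
      (LinearMap.exact_map_mkQ_range g)
    rw [Nat.cast_zero, zero_add]
    refine le_antisymm ?_ h1'
    by_contra hcon
    rw [not_le] at hcon
    have hne := dep_ne_top q (mem_support_quotient q p hpq)
    have h4 : dep q (A ⧸ p) < min (dep q M) (dep q L + 1) := by
      refine lt_min hcon ?_
      rw [← ENat.add_one_le_iff hne]
      gcongr
    exact absurd h3 (not_le.mpr h4)
  | succ r ih =>
    intro M _ _ _ hr
    have hnt : Nontrivial (LocalizedModule p.primeCompl M) := by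
      by_contra hn
      rw [not_nontrivial_iff_subsingleton] at hn
      have := idealDepth_eq_top_of_subsingleton (maximalIdeal (Localization.AtPrime p))
        (LocalizedModule p.primeCompl M)
      have h1 : dep p M = ⊤ := this
      rw [hr] at h1
      exact absurd h1 (ENat.natCast_ne_top _)
    have h1 : 1 ≤ LocCoh.depth (Localization.AtPrime p) (LocalizedModule p.primeCompl M) := by
      change 1 ≤ dep p M
      rw [hr]
      exact_mod_cast Nat.succ_pos r
    obtain ⟨x, hxp, hx⟩ := exists_mem_isSMulRegular p
      ((Groth.Agent.Ega4A.DepthBasic.one_le_depth_iff _).mp h1)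
    obtain ⟨f1, hf1, h1⟩ := exists_isSMulRegular p M x hx
    have h2 := depth_localized_quotSMulTop_add_one p M x hxp hx
    have h3 : dep p (QuotSMulTop x M) = r := by
      have h4 : dep p (QuotSMulTop x M) + 1 = (r : ℕ∞) + 1 := by
        rw [h2]
        exact hr
      exact ENat.add_left_injective_of_ne_top (by simp) h4
    obtain ⟨f2, hf2, h4⟩ := ih (QuotSMulTop x M) h3
    refine ⟨f1 * f2, fun h => (hp.mem_or_mem h).elim hf1 hf2, fun q hq hpq hfq => ?_⟩
    have h1' := h1 q fun h => hfq (Ideal.mul_mem_right _ _ h)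
    have h2' := h4 q hpq fun h => hfq (Ideal.mul_mem_left _ _ h)
    have h5 := depth_localized_quotSMulTop_add_one q M x (hpq hxp) h1'
    change LocCoh.depth _ _ = _
    rw [← h5]
    change dep q (QuotSMulTop x M) + 1 = _
    rw [h2']
    push_cast
    ring

/-- **EGA IV 6.11.5 type statement**, for a prime ideal. -/
theorem exists_forall_dep_eq_add (M : Type u) [AddCommGroup M] [Module A M] [Module.Finite A M]
    (h : (⟨p, hp⟩ : PrimeSpectrum A) ∈ Module.support A M) :
    ∃ f : A, f ∉ p ∧ ∀ (q : Ideal A) [q.IsPrime], p ≤ q → f ∉ q →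
      dep q M = dep p M + dep q (A ⧸ p) := by
  obtain ⟨r, hr⟩ := ENat.ne_top_iff_exists.mp (dep_ne_top p h)
  rw [← hr]
  exact exists_dep_eq_add p r M hr.symm

end Main

end K110.DepthAlong
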