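import Groth.Agent.Ega4B.SkLift
import Groth.Agent.EGA4.K110.DepthAlong
import Groth.Agent.EGA4.K110.WithBotAdd

/-!
# The dimension of a finite module along an irreducible closed subset

`A` Noetherian, `p` prime, `M` finite with `M_p ≠ 0`: there is `f ∉ p` such that for the primes
`q ⊇ p` with `f ∉ q`, `dim M_q = dim M_p + dim (A/p)_q`.
-/

set_option autoImplicit false
set_option linter.unusedSectionVars false
universe u

open IsLocalRing

namespace K110.DimAlong

open K110.DepthAlong Groth.Agent.Localalg.Depth3 Groth.Agent.Ega4B.SkLift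

variable {A : Type u} [CommRing A]

/-- the dimension of the localization at `q` -/
noncomputable abbrev sdim (q : Ideal A) [q.IsPrime] (L : Type u) [AddCommGroup L] [Module A L] :
    WithBot ℕ∞ :=
  Module.supportDim (Localization.AtPrime q) (LocalizedModule q.primeCompl L)

theorem supportDim_le_of_support_subset {R : Type u} [CommRing R] (M : Type u) [AddCommGroup M]
    [Module R M] (J : Ideal R) (h : Module.support R M ⊆ PrimeSpectrum.zeroLocus J) :
    Module.supportDim R M ≤ ringKrullDim (R ⧸ J) := by
  rw [← Module.supportDim_quotient_eq_ringKrullDim]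
  have h2 : Module.support R (R ⧸ J) = PrimeSpectrum.zeroLocus J := by
    rw [Module.support_eq_zeroLocus, Ideal.annihilator_quotient]
  refine Order.krullDim_le_of_strictMono (Set.inclusion (h.trans h2.ge)) ?_
  intro a b hab
  exact hab

theorem mem_support_loc (q : Ideal A) [hq : q.IsPrime] (M : Type u) [AddCommGroup M] [Module A M]
    [Module.Finite A M] (P : PrimeSpectrum (Localization.AtPrime q))
    (hP : P ∈ Module.support (Localization.AtPrime q) (LocalizedModule q.primeCompl M)) :
    Module.annihilator A M ≤ P.asIdeal.comap (algebraMap A (Localization.AtPrime q)) := by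
  rw [Module.support_eq_zeroLocus] at hP
  intro a ha
  refine hP ?_
  refine Module.mem_annihilator.mpr fun m => ?_
  obtain ⟨⟨m, s⟩, rfl⟩ := IsLocalizedModule.mk'_surjective q.primeCompl
      (LocalizedModule.mkLinearMap q.primeCompl M) m
  rw [Function.uncurry_apply_pair, algebraMap_smul, ← IsLocalizedModule.mk'_smul,
    Module.mem_annihilator.mp ha m, IsLocalizedModule.mk'_zero]

variable [IsNoetherianRing A] (p : Ideal A) [hp : p.IsPrime]

/-- if `dim M_p ≤ 0` and `P ≤ p` is a prime containing the annihilator of `M`, then `P = p`. -/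
theorem eq_of_sdim_le_zero (M : Type u) [AddCommGroup M] [Module A M] [Module.Finite A M]
    (h0 : sdim p M ≤ 0) (P : Ideal A) [hP : P.IsPrime] (hPp : P ≤ p)
    (hann : Module.annihilator A M ≤ P) : P = p := by
  have hnt : Nontrivial (LocalizedModule P.primeCompl M) := by
    have : (⟨P, hP⟩ : PrimeSpectrum A) ∈ Module.support A M := by
      rw [Module.support_eq_zeroLocus]
      exact hann
    exact this
  have h1 := supportDim_loc_le (A := A) M P p hPp
  have h2 : 0 ≤ Module.supportDim (Localization.AtPrime P) (LocalizedModule P.primeCompl M) := by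
    rw [Module.supportDim]
    rw [Order.krullDim_nonneg_iff]
    exact Module.nonempty_support_iff.mpr hnt |>.to_subtype
  have h3 : ringKrullDim (Localization.AtPrime p ⧸ P.map (algebraMap A (Localization.AtPrime p))) ≤ 0 :=
    (le_add_of_nonneg_left h2).trans (h1.trans h0)
  have hPp' := isPrime_map_of_le P p hPp
  have h4 : Ring.KrullDimLE 0 (Localization.AtPrime p ⧸ P.map (algebraMap A (Localization.AtPrime p))) := by
    rw [Ring.krullDimLE_iff]
    exact_mod_cast h3
  have h5 : (⊥ : Ideal (Localization.AtPrime p ⧸ P.map (algebraMap A (Localization.AtPrime p)))).IsMaximal :=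
    Ideal.isMaximal_of_isPrime _
  have h6 : (P.map (algebraMap A (Localization.AtPrime p))).IsMaximal :=
    Ideal.Quotient.maximal_of_isField _ (by
      exact Ring.isField_iff_maximal_bot.mpr h5)
  have h7 := IsLocalRing.eq_maximalIdeal h6
  rw [← comap_map_of_le P p hPp, h7]
  exact Localization.AtPrime.under_maximalIdeal

theorem exists_notMem_minimalPrimes (J : Ideal A) : ∃ f : A, f ∉ p ∧
    ∀ P ∈ J.minimalPrimes, f ∉ P → P ≤ p := by
  classical
  have hfin := Ideal.finite_minimalPrimes_of_isNoetherianRing A J
  have h1 : ∀ P : Ideal A, ¬ P ≤ p → ∃ g ∈ P, g ∉ p := fun P hP => Set.not_subset.mp hP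
  choose! g hg hg2 using h1
  refine ⟨∏ P ∈ hfin.toFinset.filter (fun P => ¬ P ≤ p), g P, ?_, ?_⟩
  · rw [hp.prod_mem_iff]
    push Not
    intro P hP
    exact hg2 P (Finset.mem_filter.mp hP).2
  · intro P hP hfP
    by_contra hcon
    refine hfP ?_
    have h3 : P ∈ hfin.toFinset.filter (fun P => ¬ P ≤ p) :=
      Finset.mem_filter.mpr ⟨hfin.mem_toFinset.mpr hP, hcon⟩
    obtain ⟨c, hc⟩ := Finset.dvd_prod_of_mem g h3
    rw [hc]
    exact Ideal.mul_mem_right _ _ (hg P hcon)

/-- the dimension formula: upper bound -/
theorem exists_sdim_le (h : ℕ) : ∀ (M : Type u) [AddCommGroup M] [Module A M] [Module.Finite A M],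
    sdim p M ≤ h → ∃ f : A, f ∉ p ∧ ∀ (q : Ideal A) [q.IsPrime], p ≤ q → f ∉ q →
      sdim q M ≤ h + ringKrullDim (Localization.AtPrime q ⧸ p.map (algebraMap A (Localization.AtPrime q))) := by
  have hpi : IsNoetherianRing (Localization.AtPrime p) := isNoetherianRing_loc p
  induction h with
  | zero =>
    intro M _ _ _ h0
    obtain ⟨f, hf, hf2⟩ := exists_notMem_minimalPrimes p (Module.annihilator A M)
    refine ⟨f, hf, fun q hq hpq hfq => ?_⟩
    rw [Nat.cast_zero, zero_add]
    refine supportDim_le_of_support_subset _ _ ?_
    intro P hP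
    have hP1 := mem_support_loc q M P hP
    have hP2 : P.asIdeal.comap (algebraMap A (Localization.AtPrime q)) ≤ q := by
      have h1 := IsLocalRing.le_maximalIdeal P.2.ne_top
      have h2 := Ideal.comap_mono (f := algebraMap A (Localization.AtPrime q)) h1
      refine h2.trans (le_of_eq ?_)
      exact Localization.AtPrime.under_maximalIdeal
    obtain ⟨P', hP', hP'2⟩ := Ideal.exists_minimalPrimes_le hP1
    have h3 := hf2 P' hP' fun h => hfq (hP2 (hP'2 h))
    have := hP'.1.1
    have h4 := eq_of_sdim_le_zero p M (by exact_mod_cast h0) P' h3 hP'.1.2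
    rw [h4] at hP'2
    exact Ideal.map_le_iff_le_comap.mpr hP'2
  | succ h ih =>
    intro M _ _ _ h0
    by_cases hmin : maximalIdeal (Localization.AtPrime p) ∈
        (Module.annihilator (Localization.AtPrime p) (LocalizedModule p.primeCompl M)).minimalPrimes
    · have h1 : sdim p M ≤ h := by
        refine le_trans (b := 0) ?_ (by exact_mod_cast Nat.zero_le h)
        refine Order.krullDim_le_of_strictMono (β := PUnit.{1}) (fun _ => PUnit.unit) ?_ |>.trans ?_
        · intro a b hab
          exfalso
          have h2 : a.1.asIdeal < b.1.asIdeal := hab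
          have h3 : b.1.asIdeal ≤ maximalIdeal _ := IsLocalRing.le_maximalIdeal b.1.2.ne_top
          have h4 : a.1 ∈ PrimeSpectrum.zeroLocus (Module.annihilator (Localization.AtPrime p)
              (LocalizedModule p.primeCompl M) : Set (Localization.AtPrime p)) := by
            rw [← Module.support_eq_zeroLocus]
            exact a.2
          have h5 := hmin.2 ⟨a.1.2, h4⟩ (h2.le.trans h3)
          exact absurd (h2.trans_le h3) (not_lt_of_ge h5)
        · exact Order.krullDim_nonpos_of_subsingleton
      obtain ⟨f, hf, hf2⟩ := ih M h1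
      refine ⟨f, hf, fun q hq hpq hfq => (hf2 q hpq hfq).trans ?_⟩
      gcongr
      exact Nat.le_succ h
    · have h1 : ∃ y ∈ maximalIdeal (Localization.AtPrime p), ∀ P ∈
          (Module.annihilator (Localization.AtPrime p) (LocalizedModule p.primeCompl M)).minimalPrimes,
            y ∉ P := by
        by_contra hcon
        push Not at hcon
        have hfin := Ideal.finite_minimalPrimes_of_isNoetherianRing (Localization.AtPrime p)
          (Module.annihilator (Localization.AtPrime p) (LocalizedModule p.primeCompl M))
        have h2 : (maximalIdeal (Localization.AtPrime p) : Set (Localization.AtPrime p)) ⊆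
            ⋃ P ∈ (Module.annihilator (Localization.AtPrime p)
              (LocalizedModule p.primeCompl M)).minimalPrimes, (P : Set (Localization.AtPrime p)) := by
          intro y hy
          obtain ⟨P, hP, hyP⟩ := hcon y hy
          exact Set.mem_biUnion hP hyP
        obtain ⟨P, hP, hle⟩ := (Ideal.subset_union_prime_finite hfin (f := id) 0 0
          fun P hP _ _ => hP.1.1).mp h2
        have h3 : P = maximalIdeal _ :=
          le_antisymm (IsLocalRing.le_maximalIdeal hP.1.1.ne_top) hle
        exact hmin (h3 ▸ hP)
      obtain ⟨y, hy, hy2⟩ := h1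
      obtain ⟨⟨x, s⟩, hxs⟩ := IsLocalization.surj p.primeCompl y
      simp only at hxs
      have hs : IsUnit (algebraMap A (Localization.AtPrime p) s) := IsLocalization.map_units _ s
      have hxm : algebraMap A (Localization.AtPrime p) x ∈ maximalIdeal (Localization.AtPrime p) := by
        rw [← hxs]; exact Ideal.mul_mem_right _ _ hy
      have hxp : x ∈ p :=
        (IsLocalization.AtPrime.to_map_mem_maximal_iff (Localization.AtPrime p) p x).mp hxm
      have hx2 : ∀ P ∈ (Module.annihilator (Localization.AtPrime p)
          (LocalizedModule p.primeCompl M)).minimalPrimes, algebraMap A (Localization.AtPrime p) x ∉ P := by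
        intro P hP hxP
        rw [← hxs] at hxP
        have := hP.1.1
        refine (this.mem_or_mem hxP).elim (hy2 P hP) fun h => ?_
        exact this.ne_top (Ideal.eq_top_of_isUnit_mem _ h hs)
      by_cases hnt : Nontrivial (LocalizedModule p.primeCompl M)
      · have h3 := Module.supportDim_quotSMulTop_succ_eq_of_notMem_minimalPrimes_of_mem_maximalIdeal
          hx2 hxm
        have h4 : sdim p (QuotSMulTop x M) ≤ h := by
          have h5 : sdim p (QuotSMulTop x M) = Module.supportDim (Localization.AtPrime p)
              (QuotSMulTop (algebraMap A (Localization.AtPrime p) x) (LocalizedModule p.primeCompl M)) :=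
            Module.supportDim_eq_of_equiv (localizedQuotSMulTopEquiv p M x)
          have h6 : sdim p (QuotSMulTop x M) + 1 ≤ (h : WithBot ℕ∞) + 1 := by
            rw [h5, h3]
            exact_mod_cast h0
          exact (K110.WithBotAdd.add_natCast_le_add_natCast_iff _ _ 1).mp (by exact_mod_cast h6)
        obtain ⟨f, hf, hf2⟩ := ih (QuotSMulTop x M) h4
        refine ⟨f, hf, fun q hq hpq hfq => ?_⟩
        have hqi : IsNoetherianRing (Localization.AtPrime q) := isNoetherianRing_loc q
        have hxq : algebraMap A (Localization.AtPrime q) x ∈ maximalIdeal (Localization.AtPrime q) :=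
          (IsLocalization.AtPrime.to_map_mem_maximal_iff (Localization.AtPrime q) q x).mpr (hpq hxp)
        have h7 := Module.supportDim_le_supportDim_quotSMulTop_succ
          (M := LocalizedModule q.primeCompl M) hxq
        have h8 : sdim q (QuotSMulTop x M) = Module.supportDim (Localization.AtPrime q)
              (QuotSMulTop (algebraMap A (Localization.AtPrime q) x) (LocalizedModule q.primeCompl M)) :=
            Module.supportDim_eq_of_equiv (localizedQuotSMulTopEquiv q M x)
        rw [← h8] at h7
        refine h7.trans ?_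
        push_cast
        rw [add_right_comm]
        gcongr
        exact hf2 q hpq hfq
      · rw [not_nontrivial_iff_subsingleton] at hnt
        have h3 : sdim p M ≤ h := by
          rw [sdim, Module.supportDim_eq_bot_of_subsingleton]
          exact bot_le
        obtain ⟨f, hf, hf2⟩ := ih M h3
        refine ⟨f, hf, fun q hq hpq hfq => (hf2 q hpq hfq).trans ?_⟩
        gcongr
        exact Nat.le_succ h

/-- **EGA IV 6.11.? type statement**: the dimension formula along `V(p)` near its generic point. -/
theorem exists_forall_sdim_eq_add (M : Type u) [AddCommGroup M] [Module A M] [Module.Finite A M]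
    (h : (⟨p, hp⟩ : PrimeSpectrum A) ∈ Module.support A M) :
    ∃ f : A, f ∉ p ∧ ∀ (q : Ideal A) [q.IsPrime], p ≤ q → f ∉ q →
      sdim q M = sdim p M +
        ringKrullDim (Localization.AtPrime q ⧸ p.map (algebraMap A (Localization.AtPrime q))) := by
  have hpi : IsNoetherianRing (Localization.AtPrime p) := isNoetherianRing_loc p
  have hnt : Nontrivial (LocalizedModule p.primeCompl M) := h
  have h1 : sdim p M ≠ ⊥ := Module.supportDim_ne_bot_of_nontrivial _ _
  have h2 : sdim p M < ⊤ := Groth.Agent.Ega4A.DepthBasic.supportDim_lt_top _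
  obtain ⟨d, hd⟩ := WithBot.ne_bot_iff_exists.mp h1
  have hd2 : d ≠ ⊤ := by
    rintro rfl
    rw [← hd] at h2
    exact absurd h2 (lt_irrefl _)
  obtain ⟨n, rfl⟩ := ENat.ne_top_iff_exists.mp hd2
  obtain ⟨f, hf, hf2⟩ := exists_sdim_le p n M hd.ge
  refine ⟨f, hf, fun q hq hpq hfq => le_antisymm ?_ (supportDim_loc_le M p q hpq)⟩
  rw [← hd]
  exact hf2 q hpq hfq

end K110.DimAlong
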