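import Groth.Agent.Ega4A.PFibre
import Groth.Agent.Ega4C.GeomCompNor
import Groth.Agent.Ega4C.NormGeom
import Groth.Agent.Ega4C.NormUnion
import Groth.Agent.Ega4C.LocusFibre
import Groth.Agent.CurvesC.RegNormal

/-!
# Fibres over fields essentially of finite type: normality

`FibP P A B` (from `Ega4A.PFibre`): `K ⊗[A] B` has `P` for all fields `K` essentially of finite type
over `A`.

* `good_normal`: normality is a `Good` property;
* `fibP_normal_iff`: `FibP IsNormalRing A B` iff all fibre rings `k(p) ⊗ B` are geometrically normal.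
-/

set_option autoImplicit false
universe u

namespace K110.FibNormal

open Groth.Agent Groth.Agent.Ega4A.PFibre EGA4
open scoped TensorProduct

theorem isNormalRing_of_isRegularRing (R : Type u) [CommRing R] [IsRegularRing R] :
    EGA4.IsNormalRing R := by
  intro p hp
  have : IsRegularLocalRing (Localization.AtPrime p) := isRegularRing_iff.mp ‹_› p
  exact ⟨CurvesC.RegNormal.isDomain _, CurvesC.RegNormal.isIntegrallyClosed _⟩

theorem good_normal : Good.{u} (fun R _ => EGA4.IsNormalRing R) where
  equiv := fun _ _ _ _ e h => Ega4C.NormUnion.isNormalRing_of_ringEquiv e.symm h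
  loc := fun R S _ _ _ M _ _ h => Ega4C.NormUnion.isNormalRing_of_isLocalization R S M h
  asc := fun R S _ _ _ _ _ hRS hR => by
    have := hRS.1
    refine Ega4C.GeomCompNor.ascends_normal R S hR fun p _ => ?_
    have h2 : IsRegularRing (p.Fiber S) :=
      Ega4C.LocusFibre.isRegularRing_of_isGeometricallyRegular _ _ (hRS.2 p).2
    exact isNormalRing_of_isRegularRing _
  desc := fun R S _ _ _ _ _ _ h => Ega4C.NormUnion.isNormalRing_of_faithfullyFlat R S h

theorem fibP_of_isGeomNormal {A B : Type u} [CommRing A] [CommRing B] [Algebra A B]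
    (h : ∀ (p : Ideal A) [p.IsPrime], EGA4.IsGeomNormal p.ResidueField (p.Fiber B)) :
    FibP.{u} (fun R _ => EGA4.IsNormalRing R) A B := by
  intro K _ _ hK
  let p : Ideal A := RingHom.ker (algebraMap A K)
  have hp : p.IsPrime := RingHom.ker_isPrime _
  let f : p.ResidueField →ₐ[A] K := Ideal.ResidueField.liftₐ p (Algebra.ofId A K) le_rfl (by
    intro x hx
    have hx' : algebraMap A K x ≠ 0 := fun h0 ↦ hx h0
    exact (isUnit_iff_ne_zero.mpr hx'))
  let _ : Algebra p.ResidueField K := f.toRingHom.toAlgebra
  have : IsScalarTower A p.ResidueField K := .of_algebraMap_eq fun x => (f.commutes x).symm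
  have h1 := Ega4C.NormGeom.isNormalRing_tensor_of_isGeomNormal _ _ (h p) K
  exact Ega4C.NormUnion.isNormalRing_of_ringEquiv
    (Algebra.TensorProduct.cancelBaseChange A p.ResidueField K K B).toRingEquiv.symm h1

theorem isGeomNormal_of_fibP {A B : Type u} [CommRing A] [CommRing B] [Algebra A B]
    (h : FibP.{u} (fun R _ => EGA4.IsNormalRing R) A B) (p : Ideal A) [p.IsPrime] :
    EGA4.IsGeomNormal p.ResidueField (p.Fiber B) := by
  intro k' _ _ hk'
  let _ : Algebra A k' := Algebra.compHom k' (algebraMap A p.ResidueField)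
  have : IsScalarTower A p.ResidueField k' := .of_algebraMap_eq fun x ↦ rfl
  have h1 : Algebra.EssFiniteType A k' := Algebra.EssFiniteType.comp A p.ResidueField k'
  exact Ega4C.NormUnion.isNormalRing_of_ringEquiv
    (Algebra.TensorProduct.cancelBaseChange A p.ResidueField k' k' B).toRingEquiv
    (h k' h1)

theorem fibP_normal_iff {A B : Type u} [CommRing A] [CommRing B] [Algebra A B] :
    FibP.{u} (fun R _ => EGA4.IsNormalRing R) A B ↔
      ∀ (p : Ideal A) [p.IsPrime], EGA4.IsGeomNormal p.ResidueField (p.Fiber B) :=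
  ⟨fun h p _ => isGeomNormal_of_fibP h p, fibP_of_isGeomNormal⟩

/-- A normal homomorphism is a flat one whose fibres over fields essentially of finite type over the
base are normal. -/
theorem isNormalHom_iff {A B : Type u} [CommRing A] [CommRing B] [Algebra A B] :
    EGA4.IsNormalHom A B ↔ Module.Flat A B ∧ FibP.{u} (fun R _ => EGA4.IsNormalRing R) A B := by
  rw [fibP_normal_iff]
  rfl

end K110.FibNormal
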