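import Groth.Agent.Ega4A.PFibre
import Groth.Agent.Ega4C.GeomRedFib
import Groth.Agent.Ega4C.LocusFibre
import Groth.Agent.CurvesC.RegNormal
import Groth.Agent.VarietyA.GeomRedAlg
import Mathlib.RingTheory.LocalProperties.Reduced

/-!
# Fibres over fields essentially of finite type: reducedness

* `good_reduced`: reducedness is a `Good` property;
* `fibP_reduced_iff`: `FibP IsReduced A B` iff all fibre rings `k(p) ⊗ B` are geometrically reduced.
-/

set_option autoImplicit false
universe u

namespace K110.FibReduced

open Groth.Agent Groth.Agent.Ega4A.PFibre EGA4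
open scoped TensorProduct

theorem isReduced_of_isRegularRing (R : Type u) [CommRing R] [IsRegularRing R] :
    IsReduced R := by
  refine ⟨fun x hx => ?_⟩
  by_contra hne
  have h1 : ¬ (Ideal.span {x}).annihilator = ⊤ := by
    intro h
    apply hne
    have : (1 : R) ∈ (Ideal.span {x}).annihilator := by rw [h]; trivial
    rw [Submodule.mem_annihilator_span_singleton] at this
    simpa using this
  obtain ⟨m, hm, hle⟩ := Ideal.exists_le_maximal _ h1
  have : IsRegularLocalRing (Localization.AtPrime m) := isRegularRing_iff.mp ‹_› m
  have hd : IsDomain (Localization.AtPrime m) := CurvesC.RegNormal.isDomain _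
  have h2 : algebraMap R (Localization.AtPrime m) x = 0 := by
    have h3 : IsNilpotent (algebraMap R (Localization.AtPrime m) x) := hx.map _
    exact h3.eq_zero
  rw [IsLocalization.map_eq_zero_iff m.primeCompl] at h2
  obtain ⟨s, hs⟩ := h2
  apply s.2
  apply hle
  rw [Submodule.mem_annihilator_span_singleton]
  exact hs

theorem isGeometricallyReduced_of_isGeometricallyRegular (k S : Type u) [Field k] [CommRing S]
    [Algebra k S] (h : CAlg.IsGeometricallyRegular k S) : Algebra.IsGeometricallyReduced k S := by
  refine Ega4C.GeomRedFib.isGeometricallyReduced_of_forall_finite S fun K _ _ hK => ?_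
  have := h K hK
  exact isReduced_of_isRegularRing _

theorem good_reduced : Good.{u} (fun R _ => IsReduced R) where
  equiv := fun _ _ _ _ e h => isReduced_of_injective e.symm e.symm.injective
  loc := fun R S _ _ _ M _ _ h => isReduced_localizationPreserves M S h
  asc := fun R S _ _ _ _ _ hRS hR => by
    have := hRS.1
    have h1 : IsReduced (S ⊗[R] R) := Ega4C.GeomRedFib.isReduced_tensor_of_fibres
      (A := R) (A' := S) (fun p _ => isGeometricallyReduced_of_isGeometricallyRegular _ _
        (hRS.2 p).2) R
    exact isReduced_of_injective (Algebra.TensorProduct.rid R R S).symm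
      (Algebra.TensorProduct.rid R R S).symm.injective
  desc := fun R S _ _ _ _ _ _ h => isReduced_of_injective (algebraMap R S)
    (FaithfulSMul.algebraMap_injective R S)

theorem fibP_of_isGeometricallyReduced {A B : Type u} [CommRing A] [CommRing B] [Algebra A B]
    (h : ∀ (p : Ideal A) [p.IsPrime], Algebra.IsGeometricallyReduced p.ResidueField (p.Fiber B)) :
    FibP.{u} (fun R _ => IsReduced R) A B := by
  intro K _ _ hK
  let p : Ideal A := RingHom.ker (algebraMap A K)
  have hp : p.IsPrime := RingHom.ker_isPrime _
  let f : p.ResidueField →ₐ[A] K := Ideal.ResidueField.liftₐ p (Algebra.ofId A K) le_rfl (by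
    intro x hx
    have hx' : algebraMap A K x ≠ 0 := fun h0 ↦ hx h0
    exact (isUnit_iff_ne_zero.mpr hx'))
  let _ : Algebra p.ResidueField K := f.toRingHom.toAlgebra
  have : IsScalarTower A p.ResidueField K := .of_algebraMap_eq fun x => (f.commutes x).symm
  have := h p
  have h1 : IsReduced (K ⊗[p.ResidueField] (p.ResidueField ⊗[A] B)) :=
    VarietyA.GeomRedAlg.isReduced_tensorProduct_field K
  exact isReduced_of_injective
    (Algebra.TensorProduct.cancelBaseChange A p.ResidueField K K B).symm
    (Algebra.TensorProduct.cancelBaseChange A p.ResidueField K K B).symm.injective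

theorem isGeometricallyReduced_of_fibP {A B : Type u} [CommRing A] [CommRing B] [Algebra A B]
    (h : FibP.{u} (fun R _ => IsReduced R) A B) (p : Ideal A) [p.IsPrime] :
    Algebra.IsGeometricallyReduced p.ResidueField (p.Fiber B) := by
  refine Ega4C.GeomRedFib.isGeometricallyReduced_of_forall_finite _ fun k' _ _ hk' => ?_
  let _ : Algebra A k' := Algebra.compHom k' (algebraMap A p.ResidueField)
  have : IsScalarTower A p.ResidueField k' := .of_algebraMap_eq fun x ↦ rfl
  have h1 : Algebra.EssFiniteType A k' := Algebra.EssFiniteType.comp A p.ResidueField k'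
  have h2 : IsReduced (k' ⊗[A] B) := h k' h1
  exact isReduced_of_injective
    (Algebra.TensorProduct.cancelBaseChange A p.ResidueField k' k' B)
    (Algebra.TensorProduct.cancelBaseChange A p.ResidueField k' k' B).injective

theorem fibP_reduced_iff {A B : Type u} [CommRing A] [CommRing B] [Algebra A B] :
    FibP.{u} (fun R _ => IsReduced R) A B ↔
      ∀ (p : Ideal A) [p.IsPrime], Algebra.IsGeometricallyReduced p.ResidueField (p.Fiber B) :=
  ⟨fun h p _ => isGeometricallyReduced_of_fibP h p, fibP_of_isGeometricallyReduced⟩

end K110.FibReduced
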