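import Groth.Agent.CalgB.RegHom7
import Groth.Agent.S2692

/-!
# Regular homomorphisms: base change of finite type morphisms, descent along faithfully flat base change

* `isRegularHom_baseChange_finiteType`: if `A → B` is regular and of finite type then so is
  `A' → A' ⊗ B` for every `A'`.
* `isRegularHom_of_baseChange`: if `A'` is faithfully flat over `A` and `A' → A' ⊗ B` is regular then
  `A → B` is regular.
-/

set_option autoImplicit false
universe u

namespace K110.RegHomBC

open TensorProduct Groth.Agent.CalgB.RegHom6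

theorem fieldFib_baseChange_finiteType {A B : Type u} (A' : Type u) [CommRing A] [CommRing B]
    [CommRing A'] [Algebra A B] [Algebra A A'] [Algebra.FiniteType A B]
    (h : CAlg.IsRegularHom A B) : FieldFib A' (A' ⊗[A] B) := by
  intro K _ _ _
  let _ : Algebra A K := Algebra.compHom K (algebraMap A A')
  have : IsScalarTower A A' K := .of_algebraMap_eq fun x ↦ rfl
  let p : Ideal A := RingHom.ker (algebraMap A K)
  have hp : p.IsPrime := RingHom.ker_isPrime _
  let f : p.ResidueField →ₐ[A] K := Ideal.ResidueField.liftₐ p (Algebra.ofId A K) le_rfl (by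
    intro x hx
    have hx' : algebraMap A K x ≠ 0 := fun h0 ↦ hx h0
    exact (isUnit_iff_ne_zero.mpr hx'))
  let _ : Algebra p.ResidueField K := f.toRingHom.toAlgebra
  have : IsScalarTower A p.ResidueField K := .of_algebraMap_eq fun x ↦ (f.commutes x).symm
  have h1 : IsRegularRing (K ⊗[p.ResidueField] (p.ResidueField ⊗[A] B)) :=
    Groth.Agent.S2692.isRegularRing_of_finiteType p.ResidueField (p.ResidueField ⊗[A] B)
      (h.2 p).2 K
  have h2 : IsRegularRing (K ⊗[A] B) := IsRegularRing.of_ringEquiv
    (Algebra.TensorProduct.cancelBaseChange A p.ResidueField K K B).toRingEquiv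
  exact IsRegularRing.of_ringEquiv
    (Algebra.TensorProduct.cancelBaseChange A A' K K B).symm.toRingEquiv

theorem isRegularHom_baseChange_finiteType {A B : Type u} (A' : Type u) [CommRing A] [CommRing B]
    [CommRing A'] [Algebra A B] [Algebra A A'] [Algebra.FiniteType A B]
    (h : CAlg.IsRegularHom A B) : CAlg.IsRegularHom A' (A' ⊗[A] B) := by
  have := h.1
  exact isRegularHom_iff.2 ⟨inferInstance, fieldFib_baseChange_finiteType A' h⟩

/-- For `A'` faithfully flat over `A`, a field essentially of finite type over `A` is contained in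
one essentially of finite type over `A'`. -/
theorem exists_field (A A' : Type u) [CommRing A] [CommRing A'] [Algebra A A']
    [Module.FaithfullyFlat A A'] (K : Type u) [Field K] [Algebra A K]
    [Algebra.EssFiniteType A K] :
    ∃ (L : Type u) (_ : Field L) (_ : Algebra A' L) (_ : Algebra K L) (_ : Algebra A L),
      IsScalarTower A A' L ∧ IsScalarTower A K L ∧ Algebra.EssFiniteType A' L := by
  have hnt : Nontrivial (A' ⊗[A] K) := inferInstance
  obtain ⟨m, hm⟩ := Ideal.exists_maximal (A' ⊗[A] K)
  let _ : Algebra K ((A' ⊗[A] K) ⧸ m) := ((Ideal.Quotient.mk m).comp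
      (Algebra.TensorProduct.includeRight : K →ₐ[A] A' ⊗[A] K).toRingHom).toAlgebra
  have hst : IsScalarTower A K ((A' ⊗[A] K) ⧸ m) := by
    refine .of_algebraMap_eq fun x => ?_
    change algebraMap A ((A' ⊗[A] K) ⧸ m) x = Ideal.Quotient.mk m
      ((Algebra.TensorProduct.includeRight : K →ₐ[A] A' ⊗[A] K) (algebraMap A K x))
    rw [AlgHom.commutes]
    rfl
  exact ⟨(A' ⊗[A] K) ⧸ m, Ideal.Quotient.field m, inferInstance, inferInstance,
    inferInstance, inferInstance, hst, Algebra.EssFiniteType.comp A' (A' ⊗[A] K) _⟩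

theorem fieldFib_of_baseChange {A B : Type u} (A' : Type u) [CommRing A] [CommRing B]
    [CommRing A'] [Algebra A B] [Algebra A A'] [Module.FaithfullyFlat A A']
    (h : FieldFib A' (A' ⊗[A] B)) : FieldFib A B := by
  intro K _ _ hK
  obtain ⟨L, _, _, _, _, _, _, hL⟩ := exists_field A A' K
  have h1 : IsRegularRing (L ⊗[A'] (A' ⊗[A] B)) := h L hL
  have h2 : IsRegularRing (L ⊗[A] B) := IsRegularRing.of_ringEquiv
    (Algebra.TensorProduct.cancelBaseChange A A' L L B).toRingEquiv
  have h3 : IsRegularRing (L ⊗[K] (K ⊗[A] B)) := IsRegularRing.of_ringEquiv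
    (Algebra.TensorProduct.cancelBaseChange A K L L B).symm.toRingEquiv
  have h4 : IsRegularRing ((K ⊗[A] B) ⊗[K] L) := IsRegularRing.of_ringEquiv
    (Algebra.TensorProduct.comm K L (K ⊗[A] B)).toRingEquiv
  exact Groth.Agent.CalgB.RegHom4.isRegularRing_of_faithfullyFlat (K ⊗[A] B)
    ((K ⊗[A] B) ⊗[K] L)

theorem flat_of_baseChange (A A' M : Type*) [CommRing A] [AddCommGroup M] [Module A M]
    [CommRing A'] [Algebra A A'] [Module.FaithfullyFlat A A']
    [Module.Flat A' (A' ⊗[A] M)] : Module.Flat A M := by
  exact Module.Flat.of_flat_tensorProduct A M A'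

theorem isRegularHom_of_baseChange {A B : Type u} (A' : Type u) [CommRing A] [CommRing B]
    [CommRing A'] [Algebra A B] [Algebra A A'] [Module.FaithfullyFlat A A']
    (h : CAlg.IsRegularHom A' (A' ⊗[A] B)) : CAlg.IsRegularHom A B := by
  have := h.1
  exact isRegularHom_iff.2 ⟨flat_of_baseChange A A' B,
    fieldFib_of_baseChange A' (isRegularHom_iff.1 h).2⟩

end K110.RegHomBC
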